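import Mathlib.RingTheory.RootsOfUnity.PrimitiveRoots
import Mathlib.Algebra.Field.GeomSum
import Mathlib.Algebra.BigOperators.Intervals
import Mathlib.Tactic.FieldSimp
import Mathlib.Tactic.LinearCombination
import Mathlib.Tactic.Ring

/-!
# The quadratic function with Fourier transform `1 / (2 - ω - ω⁻¹)`
-/

namespace Groth.Agent.L13.Dedekind

open Finset

variable {K : Type*} [Field K]

/-- The centred quadratic function on `0, ..., N - 1`. -/
def f (N : ℕ) (i : ℕ) : K := (i : K) * ((i : K) - (N : K)) / 2 + ((N : K) ^ 2 - 1) / 12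

theorem f_self_eq_zero (N : ℕ) : f (K := K) N N = f N 0 := by simp [f]

theorem f_sub (N i : ℕ) (hi : i ≤ N) : f (K := K) N (N - i) = f N i := by
  rw [f, f, Nat.cast_sub hi]; ring

theorem two_twelve (h6 : (6 : K) ≠ 0) : (2 : K) ≠ 0 ∧ (12 : K) ≠ 0 := by
  have h2 : (2 : K) ≠ 0 := fun h => h6 (by linear_combination (3 : K) * h)
  exact ⟨h2, by rw [show (12 : K) = 2 * 6 by norm_num]; exact mul_ne_zero h2 h6⟩

theorem sum_f (h6 : (6 : K) ≠ 0) (N : ℕ) : ∑ i ∈ range N, f (K := K) N i = 0 := by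
  obtain ⟨h2, h12⟩ := two_twelve h6
  have key : ∀ M : ℕ, 12 * ∑ i ∈ range M, f (K := K) N i =
      (M : K) * ((M : K) - 1) * (2 * (M : K) - 1) - 3 * (N : K) * (M : K) * ((M : K) - 1) +
        (M : K) * ((N : K) ^ 2 - 1) := by
    intro M
    induction M with
    | zero => simp
    | succ M ih =>
      rw [sum_range_succ, mul_add, ih, f, Nat.cast_succ]
      field_simp
      ring
  have h := key N
  have : 12 * ∑ i ∈ range N, f (K := K) N i = 0 := by rw [h]; ring
  exact (mul_eq_zero.mp this).resolve_left h12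

theorem sum_pow_eq_zero {N : ℕ} {ω : K} (hω : ω ^ N = 1) (h1 : ω ≠ 1) :
    ∑ i ∈ range N, ω ^ i = 0 := by
  rw [geom_sum_eq h1, hω, sub_self, zero_div]

theorem mul_sum_pow_mul_f (h6 : (6 : K) ≠ 0) {N : ℕ} (hN : 0 < N) {ω : K} (hω : ω ^ N = 1)
    (h1 : ω ≠ 1) : (2 - ω - ω⁻¹) * ∑ i ∈ range N, ω ^ i * f N i = (N : K) := by
  obtain ⟨h2, h12⟩ := two_twelve h6
  have hω0 : ω ≠ 0 := fun h => by simp [h, hN.ne'] at hω
  obtain ⟨M, rfl⟩ : ∃ M, N = M + 1 := ⟨N - 1, by omega⟩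
  set S := ∑ i ∈ range (M + 1), ω ^ i * f (M + 1) i with hS
  -- the shifts
  have hplus : ω * ∑ i ∈ range (M + 1), ω ^ i * f (M + 1) (i + 1) = S := by
    have e1 := sum_range_succ (fun i => ω ^ i * f (K := K) (M + 1) i) (M + 1)
    have e2 := sum_range_succ' (fun i => ω ^ i * f (K := K) (M + 1) i) (M + 1)
    rw [mul_sum, sum_congr rfl fun i _ => show ω * (ω ^ i * f (K := K) (M + 1) (i + 1)) =
      ω ^ (i + 1) * f (M + 1) (i + 1) by ring]
    have e3 : ω ^ (M + 1) * f (K := K) (M + 1) (M + 1) = ω ^ 0 * f (M + 1) 0 := by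
      rw [hω, f_self_eq_zero, pow_zero]
    linear_combination e1 - e2 + e3
  let g : ℕ → K := fun i => ((i : K) - 1) * (((i : K) - 1) - ((M + 1 : ℕ) : K)) / 2 +
    (((M + 1 : ℕ) : K) ^ 2 - 1) / 12
  have hg : ∀ i, g (i + 1) = f (M + 1) i := fun i => by simp [g, f]
  have hminus : ∑ i ∈ range (M + 1), ω ^ i * g i = ω * S + ((M + 1 : ℕ) : K) := by
    rw [sum_range_succ', hS, mul_sum, sum_range_succ (fun i => ω * (ω ^ i * f (K := K) (M + 1) i))]
    simp only [hg, pow_zero, one_mul]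
    have e : g 0 = f (M + 1) M + ((M + 1 : ℕ) : K) := by
      simp only [g, f]; push_cast; field_simp; ring
    rw [e, show ω * (ω ^ M * f (K := K) (M + 1) M) = ω ^ (M + 1) * f (M + 1) M by ring, hω, one_mul,
      add_assoc]
    congr 1
    exact sum_congr rfl fun i _ => by ring
  have hdiff : ∀ i, 2 * f (K := K) (M + 1) i - f (M + 1) (i + 1) - g i = -1 := fun i => by
    simp only [g, f]; push_cast; field_simp; ring
  have h0 : ∑ i ∈ range (M + 1), ω ^ i * (2 * f (K := K) (M + 1) i - f (M + 1) (i + 1) - g i) = 0 := by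
    simp only [hdiff, mul_neg, mul_one, sum_neg_distrib, sum_pow_eq_zero hω h1, neg_zero]
  simp only [mul_sub, sum_sub_distrib, mul_left_comm _ (2 : K), ← mul_sum, hminus] at h0
  have hplus' : ∑ i ∈ range (M + 1), ω ^ i * f (M + 1) (i + 1) = ω⁻¹ * S := by
    rw [← hplus, ← mul_assoc, inv_mul_cancel₀ hω0, one_mul]
  rw [hplus', ← hS] at h0
  linear_combination h0

theorem two_sub_ne_zero {ω : K} (h0 : ω ≠ 0) (h1 : ω ≠ 1) : 2 - ω - ω⁻¹ ≠ 0 := by
  intro h
  have : (ω - 1) ^ 2 = 0 := by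
    have := congr_arg (ω * ·) h
    simp only [mul_sub, mul_zero, mul_inv_cancel₀ h0] at this
    linear_combination -this
  exact h1 (sub_eq_zero.mp (pow_eq_zero_iff two_ne_zero |>.mp this))

end Groth.Agent.L13.Dedekind
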